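import Mathlib

/-!
# Redundant Sylow subgroups: general facts

A Sylow `p`-subgroup `Q` is redundant when every `p`-element lies in a Sylow `p`-subgroup different
from `Q`.
-/

set_option autoImplicit false

namespace Cfsg.Agent.Lib.RedundantSylow

variable {G : Type*} [Group G]

/-- `G` has a redundant Sylow `p`-subgroup. -/
def HasRedundant (p : ℕ) (G : Type*) [Group G] : Prop :=
  ∃ Q : Sylow p G, ∀ x : G, (∃ k : ℕ, orderOf x = p ^ k) → ∃ P : Sylow p G, P ≠ Q ∧ x ∈ P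

variable {p : ℕ} [Fact p.Prime] [Finite G]

/-- If some element lies in exactly one Sylow subgroup then none is redundant. -/
lemma not_hasRedundant_of_unique {Q₀ : Sylow p G} {x₀ : G} (hx : x₀ ∈ Q₀)
    (h : ∀ P : Sylow p G, x₀ ∈ P → P = Q₀) : ¬ HasRedundant p G := by
  rintro ⟨Q, hQ⟩
  obtain ⟨g, rfl⟩ := MulAction.exists_smul_eq G Q₀ Q
  have hxp : ∃ k : ℕ, orderOf x₀ = p ^ k := by
    obtain ⟨k, hk⟩ := (IsPGroup.iff_orderOf.1 Q₀.2) ⟨x₀, hx⟩
    exact ⟨k, by rw [← Subgroup.orderOf_coe] at hk; exact hk⟩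
  obtain ⟨k, hk⟩ := hxp
  obtain ⟨P, hP, hxP⟩ := hQ (g * x₀ * g⁻¹) ⟨k, by rw [← hk, ← MulAut.conj_apply, MulEquiv.orderOf_eq]⟩
  apply hP
  have : x₀ ∈ (g⁻¹ • P : Sylow p G) := by
    rw [← SetLike.mem_coe, Sylow.coe_smul, Set.mem_smul_set_iff_inv_smul_mem]
    simpa [mul_assoc] using hxP
  rw [← h _ this, smul_inv_smul]

/-- A cyclic Sylow subgroup is not redundant. -/
lemma not_hasRedundant_of_isCyclic (Q₀ : Sylow p G) [h : IsCyclic (Q₀ : Subgroup G)] :
    ¬ HasRedundant p G := by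
  obtain ⟨c, hc⟩ := h.exists_generator
  refine not_hasRedundant_of_unique (x₀ := (c : G)) c.2 fun P hP => ?_
  have hle : (Q₀ : Subgroup G) ≤ P := by
    intro z hz
    obtain ⟨i, hi⟩ := hc ⟨z, hz⟩
    have : (c : G) ^ i = z := by simpa using congrArg Subtype.val hi
    rw [← this]
    exact Subgroup.zpow_mem _ hP i
  exact Sylow.ext (Q₀.3 P.2 hle)

section Central

variable {H : Type*} [Group H] {f : G →* H}

lemma mem_mapSurjective_iff (hf : Function.Surjective f) (P : Sylow p G) {y : H} :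
    y ∈ P.mapSurjective hf ↔ ∃ x ∈ P, f x = y := Iff.rfl

lemma sylow_le_of_map_le (hf : Function.Surjective f) (hc : f.ker ≤ Subgroup.center G)
    (P : Sylow p G) {x : G} (hx : ∃ k : ℕ, orderOf x = p ^ k) (hfx : f x ∈ P.mapSurjective hf) :
    x ∈ P := by
  obtain ⟨y, hy, hyx⟩ := hfx
  have hz : y⁻¹ * x ∈ f.ker := by rw [MonoidHom.mem_ker, map_mul, map_inv, hyx, inv_mul_cancel]
  -- `x = y * z` with `z` central, and `⟨P, x⟩` is a `p`-group
  have hxn : x ∈ Subgroup.normalizer ((P : Subgroup G) : Set G) := by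
    rw [show x = y * (y⁻¹ * x) by group]
    exact Subgroup.mul_mem _ (Subgroup.le_normalizer hy)
      (Subgroup.center_le_normalizer _ (hc hz))
  obtain ⟨k, hk⟩ := hx
  have hpz : IsPGroup p (Subgroup.zpowers x) :=
    IsPGroup.of_card (n := k) (by rw [Nat.card_zpowers, hk])
  have hsup : IsPGroup p ((Subgroup.zpowers x ⊔ (P : Subgroup G) : Subgroup G)) :=
    hpz.to_sup_of_normal_right' P.2 (Subgroup.zpowers_le.2 hxn)
  have := P.3 hsup le_sup_right
  rw [← SetLike.mem_coe, ← Sylow.coe_coe, SetLike.mem_coe, ← this]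
  exact Subgroup.mem_sup_left (Subgroup.mem_zpowers x)

lemma mapSurjective_injective (hf : Function.Surjective f) (hc : f.ker ≤ Subgroup.center G) :
    Function.Injective fun P : Sylow p G => P.mapSurjective hf := by
  intro P Q h
  simp only at h
  refine Sylow.ext ((P.3 Q.2 fun x hx => ?_)).symm
  obtain ⟨k, hk⟩ := (IsPGroup.iff_orderOf.1 P.2) ⟨x, hx⟩
  refine sylow_le_of_map_le hf hc Q ⟨k, by rw [← Subgroup.orderOf_coe] at hk; exact hk⟩ ?_
  rw [← h]
  exact ⟨x, hx, rfl⟩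

/-- Passing to a quotient by a central subgroup does not change redundancy. -/
theorem hasRedundant_iff_of_central [Finite H] (hf : Function.Surjective f)
    (hc : f.ker ≤ Subgroup.center G) : HasRedundant p G ↔ HasRedundant p H := by
  have himg : ∀ (P : Sylow p G) (x : G), x ∈ P → f x ∈ P.mapSurjective hf := by
    intro P x hx
    exact ⟨x, hx, rfl⟩
  have hord : ∀ x : G, (∃ k : ℕ, orderOf x = p ^ k) → ∃ k : ℕ, orderOf (f x) = p ^ k := by
    rintro x ⟨k, hk⟩
    obtain ⟨j, -, hj⟩ := (Nat.dvd_prime_pow Fact.out).1 (hk ▸ orderOf_map_dvd f x)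
    exact ⟨j, hj⟩
  constructor
  · rintro ⟨Q, hQ⟩
    refine ⟨Q.mapSurjective hf, fun y hy => ?_⟩
    obtain ⟨k, hk⟩ := hy
    obtain ⟨S, hS⟩ := IsPGroup.exists_le_sylow
      (IsPGroup.of_card (n := k) (by rw [Nat.card_zpowers, hk]) : IsPGroup p (Subgroup.zpowers y))
    obtain ⟨R, rfl⟩ := Sylow.mapSurjective_surjective hf p S
    have hy' := hS (Subgroup.mem_zpowers y)
    obtain ⟨x, hxR, rfl⟩ := hy'
    obtain ⟨j, hj⟩ := (IsPGroup.iff_orderOf.1 R.2) ⟨x, hxR⟩
    rw [← Subgroup.orderOf_coe] at hj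
    obtain ⟨P, hPQ, hxP⟩ := hQ x ⟨j, hj⟩
    exact ⟨P.mapSurjective hf, fun h => hPQ (mapSurjective_injective hf hc h), himg P x hxP⟩
  · rintro ⟨Q', hQ'⟩
    obtain ⟨Q, rfl⟩ := Sylow.mapSurjective_surjective hf p Q'
    refine ⟨Q, fun x hx => ?_⟩
    obtain ⟨P', hP', hxP'⟩ := hQ' (f x) (hord x hx)
    obtain ⟨P, rfl⟩ := Sylow.mapSurjective_surjective hf p P'
    exact ⟨P, fun h => hP' (by rw [h]), sylow_le_of_map_le hf hc P hx hxP'⟩

end Central

end Cfsg.Agent.Lib.RedundantSylow
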