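import Mathlib
import Cfsg.Agent.Lib.SL2.ToriExist
import Cfsg.Agent.Lib.RedundantSylow.Basic

/-!
# Redundant Sylow subgroups of `PSL₂(q)`
-/

set_option autoImplicit false

namespace Cfsg.Agent.Lib.RedundantSylow

open Cfsg.Agent.Lib.SL2

variable {F : Type*} [Field F] [Fintype F] (p : ℕ) [Fact p.Prime]

/-- A torus of order dividing `|G|` with cofactor prime to `p` gives a cyclic Sylow subgroup. -/
lemma not_hasRedundant_of_torus {x : PSLtwo F} (hx : IsSemi x)
    (hi : ¬ p ∣ (torus x).index) : ¬ HasRedundant p (PSLtwo F) := by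
  have := isCyclic_torus_semi hx
  let S : Sylow p (torus x) := default
  let S' : Subgroup (PSLtwo F) := (S : Subgroup (torus x)).map (torus x).subtype
  have hS' : IsPGroup p S' := S.2.map _
  have hidx : ¬ p ∣ S'.index := by
    rw [Subgroup.index_map_subtype]
    exact Nat.Prime.not_dvd_mul Fact.out S.not_dvd_index hi
  have : IsCyclic S' :=
    isCyclic_of_surjective _ (Subgroup.equivMapOfInjective _ _ (torus x).subtype_injective).surjective
  have : IsCyclic ((hS'.toSylow hidx : Sylow p (PSLtwo F)) : Subgroup (PSLtwo F)) := this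
  exact not_hasRedundant_of_isCyclic (hS'.toSylow hidx)

/-- In the defining characteristic Sylow subgroups intersect trivially. -/
lemma not_hasRedundant_char [CharP F p] : ¬ HasRedundant p (PSLtwo F) := by
  set x : PSLtwo F := proj (upper (1 : F)) with hxdef
  have hx1 : x ≠ 1 := by
    intro h
    rw [hxdef, proj_eq_one_iff, mem_center_iff_entries] at h
    simpa using h.1
  have hxu : IsUnip x := ⟨upper 1, rfl, by simp [tr]; norm_num⟩
  have hcard : Nat.card (torus x) = Fintype.card F := card_torus_unip hxu hx1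
  obtain ⟨n, -, hn⟩ := FiniteField.card F p
  have hT : IsPGroup p (torus x) := IsPGroup.of_card (n := (n : ℕ)) (hcard.trans hn)
  have hidx : ¬ p ∣ (torus x).index := by
    intro hd
    have h1 : p ^ ((n : ℕ) + 1) ∣ Nat.card (PSLtwo F) * Nat.gcd 2 (Fintype.card F - 1) := by
      rw [← Subgroup.index_mul_card (torus x), hcard, hn, pow_succ', mul_assoc]
      exact mul_dvd_mul hd (Dvd.intro _ rfl)
    rw [card_PSL_mul, hn, pow_succ] at h1
    have h2 := Nat.dvd_of_mul_dvd_mul_left (pow_pos (Fact.out : p.Prime).pos _) h1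
    have h3 : p ∣ (p ^ (n : ℕ)) ^ 2 := dvd_pow (dvd_pow_self p n.ne_zero) two_ne_zero
    have h4 := Nat.dvd_sub h3 h2
    rw [Nat.sub_sub_self (Nat.one_le_pow _ _ (pow_pos (Fact.out : p.Prime).pos _))] at h4
    exact (Fact.out : p.Prime).not_dvd_one h4
  set Q₀ : Sylow p (PSLtwo F) := hT.toSylow hidx
  have hQ₀ : (Q₀ : Subgroup (PSLtwo F)) = torus x := rfl
  refine not_hasRedundant_of_unique (Q₀ := Q₀) (x₀ := x) (mem_torus_self x) fun P hP => ?_
  obtain ⟨g, rfl⟩ := MulAction.exists_smul_eq (PSLtwo F) Q₀ P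
  have h : ((g • Q₀ : Sylow p (PSLtwo F)) : Subgroup (PSLtwo F)) = torus (g * x * g⁻¹) := by
    rw [torus_conj, Sylow.coe_subgroup_smul, hQ₀]
    rfl
  apply Sylow.ext
  rw [h, hQ₀]
  refine (torus_eq_of_mem (fun e => hx1 (conj_eq_one_iff.1 e)) ?_ hx1).symm
  rw [← h]
  exact hP

lemma card_mul_two (h2 : (2 : F) ≠ 0) :
    Nat.card (PSLtwo F) * 2 = Fintype.card F * (Fintype.card F ^ 2 - 1) := by
  rw [← card_PSL_mul, ← card_center, card_center_odd h2]

lemma not_hasRedundant_odd (hp : p ≠ 2) (hchar : (p : F) ≠ 0) :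
    ¬ HasRedundant p (PSLtwo F) := by
  have hp' : p.Prime := Fact.out
  by_cases hd : p ∣ Nat.card (PSLtwo F)
  · have hnq : ¬ p ∣ Fintype.card F := fun h => hchar (by
      obtain ⟨c, hcF⟩ := CharP.exists F
      have := Fact.mk (CharP.char_is_prime F c)
      obtain ⟨n, -, hn⟩ := FiniteField.card F c
      rw [hn] at h
      rw [(Nat.prime_dvd_prime_iff_eq hp' Fact.out).1 (hp'.dvd_of_dvd_pow h)]
      exact CharP.cast_eq_zero F c)
    have hd' : p ∣ Fintype.card F * (Fintype.card F ^ 2 - 1) :=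
      card_PSL_mul (F := F) ▸ hd.mul_right _
    rw [show Fintype.card F ^ 2 - 1 = (Fintype.card F + 1) * (Fintype.card F - 1) by
      simpa using Nat.sq_sub_sq (Fintype.card F) 1] at hd'
    have hgd : ¬ p ∣ Nat.gcd 2 (Fintype.card F - 1) := fun h => hp
      ((Nat.prime_dvd_prime_iff_eq hp' Nat.prime_two).1 (h.trans (Nat.gcd_dvd_left _ _)))
    have key : ∀ g : SLtwo F, ∀ a b : ℕ,
        Nat.card (Subgroup.centralizer ({g} : Set (SLtwo F))) = a →
        Fintype.card F * (Fintype.card F ^ 2 - 1) = b * a → ¬ p ∣ b → IsSemi (proj g) →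
        ¬ HasRedundant p (PSLtwo F) := by
      intro g a b hCa hab hb hs
      refine not_hasRedundant_of_torus p hs fun hi => hb ?_
      have e : (torus (proj g)).index * a = b * a := by
        rw [← hab, ← card_PSL_mul, ← Subgroup.index_mul_card (torus (proj g)), mul_assoc,
          card_torus_mul, hCa]
      rwa [Nat.eq_of_mul_eq_mul_right (hCa ▸ Nat.card_pos) e] at hi
    have hsq : Fintype.card F ^ 2 - 1 = (Fintype.card F + 1) * (Fintype.card F - 1) := by
      simpa using Nat.sq_sub_sq (Fintype.card F) 1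
    rcases hp'.dvd_mul.1 hd' with h | h
    · exact absurd h hnq
    rcases hp'.dvd_mul.1 h with h | h
    · obtain ⟨g, hg⟩ := exists_elliptic (F := F)
      refine key g _ (Fintype.card F * (Fintype.card F - 1)) (card_centralizer_elliptic hg)
        (by rw [hsq]; ring) ?_ ⟨g, rfl, Or.inl hg⟩
      intro hb
      rcases hp'.dvd_mul.1 hb with hb | hb
      · exact hnq hb
      · have h3 := Nat.dvd_sub h hb
        have : Fintype.card F + 1 - (Fintype.card F - 1) = 2 := by
          have := Fintype.one_lt_card (α := F)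
          omega
        rw [this] at h3
        exact hp ((Nat.prime_dvd_prime_iff_eq hp' Nat.prime_two).1 h3)
    · have h4 : 4 ≤ Fintype.card F := by
        have h3 : 3 ≤ p := lt_of_le_of_ne hp'.two_le (Ne.symm hp)
        have h0 : 0 < Fintype.card F - 1 := by have := Fintype.one_lt_card (α := F); omega
        have := Nat.le_of_dvd h0 h
        omega
      obtain ⟨g, hg⟩ := exists_split h4
      refine key g _ (Fintype.card F * (Fintype.card F + 1)) (card_centralizer_split hg)
        (by rw [hsq]; ring) ?_ ⟨g, rfl, Or.inr hg⟩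
      intro hb
      rcases hp'.dvd_mul.1 hb with hb | hb
      · exact hnq hb
      · have h3 := Nat.dvd_sub hb h
        have : Fintype.card F + 1 - (Fintype.card F - 1) = 2 := by
          have := Fintype.one_lt_card (α := F)
          omega
        rw [this] at h3
        exact hp ((Nat.prime_dvd_prime_iff_eq hp' Nat.prime_two).1 h3)
  · let P : Sylow p (PSLtwo F) := default
    have hP : (P : Subgroup (PSLtwo F)) = ⊥ := by
      obtain ⟨k, hk⟩ := IsPGroup.iff_card.1 P.2
      rcases k with _ | k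
      · exact Subgroup.card_eq_one.1 (by simpa using hk)
      · exact absurd ((dvd_pow_self p k.succ_ne_zero).trans
          (hk ▸ Subgroup.card_subgroup_dvd_card _)) hd
    have : IsCyclic (P : Subgroup (PSLtwo F)) := by rw [hP]; infer_instance
    exact not_hasRedundant_of_isCyclic P

/-- A torus whose normaliser is a Sylow 2-subgroup. -/
lemma not_hasRedundant_two_of_pow {g : SLtwo F} (hg : IsSemi (proj g)) (h2 : (2 : F) ≠ 0)
    {k : ℕ} {b : ℕ} (hk : Nat.card (Subgroup.centralizer ({g} : Set (SLtwo F))) = 2 ^ (k + 1))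
    (hb : Fintype.card F * (Fintype.card F ^ 2 - 1) = 2 ^ (k + 2) * b) (hbo : Odd b) :
    ¬ HasRedundant 2 (PSLtwo F) := by
  set T := torus (proj g)
  set N := Subgroup.normalizer ((T : Subgroup (PSLtwo F)) : Set (PSLtwo F)) with hN
  have hT : Nat.card T = 2 ^ k := by
    have := card_torus_mul (g := g)
    rw [← card_center, card_center_odd h2, hk, pow_succ] at this
    exact Nat.eq_of_mul_eq_mul_right two_pos this
  have hNc : Nat.card N = 2 ^ (k + 1) := by
    rw [hN, normalizer_torus_card hg, hT, pow_succ']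
  have hidx : N.index = b := by
    have h := Subgroup.index_mul_card N
    have hG := card_mul_two (F := F) h2
    rw [hb, ← h, hNc] at hG
    refine Nat.eq_of_mul_eq_mul_right (pow_pos two_pos (k + 2)) ?_
    rw [mul_comm b, ← hG, pow_succ 2 (k + 1)]
    ring
  have := Fact.mk Nat.prime_two
  have hodd : ¬ 2 ∣ N.index := by rw [hidx]; exact hbo.not_two_dvd_nat
  obtain ⟨c, hc⟩ := (isCyclic_torus_semi hg).exists_generator
  set Q₀ : Sylow 2 (PSLtwo F) := (IsPGroup.of_card hNc).toSylow hodd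
  refine not_hasRedundant_of_unique (Q₀ := Q₀) (x₀ := (c : PSLtwo F)) (Subgroup.le_normalizer c.2)
    fun P hP => ?_
  have hPc : Nat.card (P : Subgroup (PSLtwo F)) = 2 ^ (k + 1) := by
    exact (Nat.card_congr (Sylow.equiv P Q₀).toEquiv).trans hNc
  have hTP : T ≤ (P : Subgroup (PSLtwo F)) := by
    intro z hz
    obtain ⟨i, hi⟩ := hc ⟨z, hz⟩
    have e := congrArg Subtype.val hi
    have : (c : PSLtwo F) ^ i = z := (Subgroup.coe_zpow _ c i).symm.trans e
    rw [← this]
    exact Subgroup.zpow_mem _ hP i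
  have hindex : (T.subgroupOf (P : Subgroup (PSLtwo F))).index = 2 := by
    refine Nat.eq_of_mul_eq_mul_right (show 0 < 2 ^ k by positivity) ?_
    calc _ = (T.subgroupOf (P : Subgroup (PSLtwo F))).index *
          Nat.card (T.subgroupOf (P : Subgroup (PSLtwo F))) := by
            rw [Nat.card_congr (Subgroup.subgroupOfEquivOfLe hTP).toEquiv, hT]
      _ = _ := by rw [Subgroup.index_mul_card, hPc, pow_succ']
  have hPN : (P : Subgroup (PSLtwo F)) ≤ N :=
    (Subgroup.normal_subgroupOf_iff_le_normalizer hTP).1 (Subgroup.normal_of_index_eq_two hindex)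
  exact Sylow.ext (Subgroup.eq_of_le_of_card_ge hPN (le_of_eq (hNc.trans hPc.symm)))

/-- If the tori of even order have order not a power of two, every `2`-element lies in at least two
Sylow subgroups. -/
lemma hasRedundant_two (h2 : (2 : F) ≠ 0) (hp1 : ¬ ∃ k : ℕ, Fintype.card F + 1 = 2 ^ k)
    (hm1 : ¬ ∃ k : ℕ, Fintype.card F = 2 ^ k + 1) : HasRedundant 2 (PSLtwo F) := by
  have := Fact.mk Nat.prime_two
  obtain ⟨c, hcp⟩ := CharP.exists F
  have := Fact.mk (CharP.char_is_prime F c)
  have hc2 : c ≠ 2 := fun h => h2 (by subst h; exact CharP.cast_eq_zero F 2)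
  have two : ∀ x : PSLtwo F, x ≠ 1 → (∃ k : ℕ, orderOf x = 2 ^ k) →
      ∃ P₁ P₂ : Sylow 2 (PSLtwo F), P₁ ≠ P₂ ∧ x ∈ P₁ ∧ x ∈ P₂ := by
    rintro x hx1 ⟨k, hk⟩
    have hxs : IsSemi x := by
      refine (semi_or_unip x).resolve_right fun hu => hx1 ?_
      rw [← orderOf_eq_one_iff]
      exact Nat.eq_one_of_dvd_coprimes ((Nat.coprime_primes Nat.prime_two Fact.out).2
        (Ne.symm hc2) |>.pow_left k) hk.dvd (orderOf_dvd_of_unip c hu)
    set T := torus x with hTdef
    have hxT : orderOf x ∣ Nat.card T := by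
      have h := orderOf_dvd_natCard (⟨x, mem_torus_self x⟩ : T)
      rwa [Subgroup.orderOf_mk] at h
    have heven : 2 ∣ Nat.card T := by
      rcases k with _ | k
      · exact absurd (orderOf_eq_one_iff.1 (by simpa using hk)) hx1
      · exact (dvd_pow_self 2 k.succ_ne_zero).trans (hk ▸ hxT)
    have hnp : ∀ j : ℕ, Nat.card T ≠ 2 ^ j := by
      intro j hj
      have hg : Nat.gcd 2 (Fintype.card F - 1) = 2 := by rw [← card_center, card_center_odd h2]
      have hq := Fintype.one_lt_card (α := F)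
      have hoddq := Nat.odd_iff.1 (two_ne_zero_iff_odd.1 h2)
      have hp2 : (2 : ℕ) ^ (j + 1) = 2 * 2 ^ j := pow_succ' 2 j
      rcases card_torus_semi hxs with h | h <;> rw [hg] at h
      · exact hm1 ⟨j + 1, by rw [← hTdef] at h; omega⟩
      · exact hp1 ⟨j + 1, by rw [← hTdef] at h; omega⟩
    obtain ⟨r, hr, hr2, hrd⟩ : ∃ r : ℕ, r.Prime ∧ r ≠ 2 ∧ r ∣ Nat.card T := by
      by_contra hh
      push Not at hh
      apply hnp ((Nat.card T).primeFactorsList.length)
      refine (Nat.eq_prime_pow_of_unique_prime_dvd Nat.card_pos.ne' ?_)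
      intro d hd hdT
      by_contra hd2
      exact hh d hd hd2 hdT
    have := Fact.mk hr
    obtain ⟨t, ht⟩ := exists_prime_orderOf_dvd_card' r hrd
    obtain ⟨n, hn, hn'⟩ := exists_inverter hxs
    obtain ⟨hn2, hinv⟩ := normalizer_torus_inverts hxs hn hn'
    have hnx : n ∈ Subgroup.normalizer ((Subgroup.zpowers x : Subgroup _) : Set (PSLtwo F)) := by
      rw [Subgroup.mem_normalizer_iff_map_conj_eq, MonoidHom.map_zpowers]
      show Subgroup.zpowers (n * x * n⁻¹) = _
      rw [hinv x (mem_torus_self x), Subgroup.zpowers_inv]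
    have h1 : IsPGroup 2 (Subgroup.zpowers n) := by
      obtain ⟨i, -, hi⟩ := (Nat.dvd_prime_pow Nat.prime_two).1
        (show orderOf n ∣ 2 ^ 1 from orderOf_dvd_of_pow_eq_one (by rw [pow_one, pow_two, hn2]))
      exact IsPGroup.of_card (n := i) (by rw [Nat.card_zpowers, hi])
    have hsup : IsPGroup 2 ((Subgroup.zpowers n ⊔ Subgroup.zpowers x : Subgroup (PSLtwo F))) :=
      h1.to_sup_of_normal_right'
        (IsPGroup.of_card (n := k) (by rw [Nat.card_zpowers, hk]))
        (Subgroup.zpowers_le.2 hnx)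
    obtain ⟨P, hP⟩ := hsup.exists_le_sylow
    have hnP : n ∈ P := hP (Subgroup.mem_sup_left (Subgroup.mem_zpowers n))
    have hxP : x ∈ P := hP (Subgroup.mem_sup_right (Subgroup.mem_zpowers x))
    refine ⟨P, (t : PSLtwo F) • P, fun h => ?_, hxP, ?_⟩
    · have h3 : (t : PSLtwo F) * n * (t : PSLtwo F)⁻¹ ∈ P := by
        have h0 : MulAut.conj (t : PSLtwo F) n ∈ ((t : PSLtwo F) • P : Sylow 2 (PSLtwo F)) :=
          Subgroup.smul_mem_pointwise_smul n _ _ hnP
        rw [← h] at h0
        simpa using h0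
      have h4 : (t : PSLtwo F) * t ∈ P := by
        have e : (t : PSLtwo F) * n * (t : PSLtwo F)⁻¹ * n⁻¹ = (t : PSLtwo F) * t := by
          have := hinv (t : PSLtwo F)⁻¹ (T.inv_mem t.2)
          rw [inv_inv] at this
          calc _ = (t : PSLtwo F) * (n * (t : PSLtwo F)⁻¹ * n⁻¹) := by group
            _ = _ := by rw [this]
        rw [← e]
        exact Subgroup.mul_mem _ h3 (Subgroup.inv_mem _ hnP)
      obtain ⟨i, hi⟩ := (IsPGroup.iff_orderOf.1 P.2) ⟨_, h4⟩
      rw [Subgroup.orderOf_mk, ← pow_two,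
        Nat.Coprime.orderOf_pow (by
          rw [Subgroup.orderOf_coe, ht]
          exact (Nat.coprime_primes hr Nat.prime_two).2 hr2),
        Subgroup.orderOf_coe, ht] at hi
      exact hr2 ((Nat.prime_dvd_prime_iff_eq hr Nat.prime_two).1 (hr.dvd_of_dvd_pow hi.dvd))
    · have h0 : MulAut.conj (t : PSLtwo F) x ∈ ((t : PSLtwo F) • P : Sylow 2 (PSLtwo F)) :=
        Subgroup.smul_mem_pointwise_smul x _ _ hxP
      have e : MulAut.conj (t : PSLtwo F) x = x := by
        rw [MulAut.conj_apply, torus_comm hxs.ne_one t.2 (mem_torus_self x), mul_inv_cancel_right]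
      rwa [e] at h0
  -- a non-trivial `2`-element exists
  obtain ⟨x₀, hx₀⟩ : ∃ x : PSLtwo F, orderOf x = 2 := by
    refine exists_prime_orderOf_dvd_card' 2 ?_
    have h := card_mul_two (F := F) h2
    obtain ⟨j, hj⟩ := (two_ne_zero_iff_odd (F := F)).1 h2
    have h4 : 2 * 2 ∣ Nat.card (PSLtwo F) * 2 := by
      rw [h, hj]
      refine dvd_mul_of_dvd_right ⟨j * j + j, ?_⟩ _
      refine Nat.sub_eq_of_eq_add ?_
      ring
    exact Nat.dvd_of_mul_dvd_mul_right two_pos h4
  refine ⟨default, fun x hx => ?_⟩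
  obtain ⟨y, hy1, hyk, hy⟩ : ∃ y, y ≠ 1 ∧ (∃ k : ℕ, orderOf y = 2 ^ k) ∧ (x = y ∨ x = 1) := by
    by_cases hx1 : x = 1
    · exact ⟨x₀, fun e => by simp [e] at hx₀, ⟨1, by simpa using hx₀⟩, Or.inr hx1⟩
    · exact ⟨x, hx1, hx, Or.inl rfl⟩
  obtain ⟨P₁, P₂, hne, h1, h2'⟩ := two y hy1 hyk
  have hmem : ∀ P : Sylow 2 (PSLtwo F), y ∈ P → x ∈ P := by
    intro P hP
    rcases hy with rfl | rfl
    · exact hP
    · exact Subgroup.one_mem _
  by_cases e : P₁ = default
  · exact ⟨P₂, fun e2 => hne (e.trans e2.symm), hmem _ h2'⟩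
  · exact ⟨P₁, e, hmem _ h1⟩

/-- The criterion. -/
theorem hasRedundant_PSL_iff :
    HasRedundant p (PSLtwo F) ↔
      (p = 2 ∧ (¬ ∃ k : ℕ, Fintype.card F + 1 = 2 ^ k) ∧ (¬ ∃ k : ℕ, Fintype.card F = 2 ^ k) ∧
        ¬ ∃ k : ℕ, Fintype.card F = 2 ^ k + 1) := by
  obtain ⟨c, hcp⟩ := CharP.exists F
  have := Fact.mk (CharP.char_is_prime F c)
  obtain ⟨n, -, hn⟩ := FiniteField.card F c
  by_cases hpc : (p : F) = 0
  · have : CharP F p := by
      rw [CharP.cast_eq_zero_iff F c, Nat.prime_dvd_prime_iff_eq Fact.out Fact.out] at hpc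
      exact hpc ▸ hcp
    refine iff_of_false (not_hasRedundant_char p) ?_
    rintro ⟨rfl, -, h, -⟩
    obtain ⟨m, -, hm⟩ := FiniteField.card F 2
    exact h ⟨m, hm⟩
  by_cases hp : p = 2
  · subst hp
    have h2 : (2 : F) ≠ 0 := by exact_mod_cast hpc
    have hodd := two_ne_zero_iff_odd.1 h2
    have hq := Fintype.one_lt_card (α := F)
    have hsq : Fintype.card F ^ 2 - 1 = (Fintype.card F + 1) * (Fintype.card F - 1) := by
      simpa using Nat.sq_sub_sq (Fintype.card F) 1
    by_cases hp1 : ∃ k : ℕ, Fintype.card F + 1 = 2 ^ k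
    · refine iff_of_false ?_ (fun h => h.2.1 hp1)
      obtain ⟨k, hk⟩ := hp1
      obtain ⟨g, hg⟩ := exists_elliptic (F := F)
      obtain ⟨j, rfl⟩ : ∃ j, k = j + 2 := by
        refine ⟨k - 2, ?_⟩
        have := Nat.odd_iff.1 hodd
        rcases k with _ | _ | k <;> simp at hk ⊢ <;> omega
      refine not_hasRedundant_two_of_pow (k := j + 1) (b := Fintype.card F * (2 ^ (j + 1) - 1))
        ⟨g, rfl, Or.inl hg⟩ h2 ((card_centralizer_elliptic hg).trans hk) ?_ ?_
      · have e1 : Fintype.card F - 1 = 2 * (2 ^ (j + 1) - 1) := by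
          rw [pow_succ'] at hk ⊢
          omega
        rw [hsq, hk, e1, pow_succ 2 (j + 2)]
        ring
      · refine hodd.mul ?_
        have : 1 ≤ 2 ^ j := Nat.one_le_two_pow
        exact ⟨2 ^ j - 1, by rw [pow_succ']; omega⟩
    by_cases hm1 : ∃ k : ℕ, Fintype.card F = 2 ^ k + 1
    · refine iff_of_false ?_ (fun h => h.2.2.2 hm1)
      obtain ⟨k, hk⟩ := hm1
      obtain ⟨j, rfl⟩ : ∃ j, k = j + 2 := by
        refine ⟨k - 2, ?_⟩
        have := Nat.odd_iff.1 hodd
        rcases k with _ | _ | k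
        · simp at hk; omega
        · exact absurd ⟨2, by rw [hk]; rfl⟩ hp1
        · omega
      have h4 : 4 ≤ Fintype.card F := by
        have : 1 ≤ 2 ^ j := Nat.one_le_two_pow
        rw [hk, pow_succ, pow_succ]
        omega
      obtain ⟨g, hg⟩ := exists_split h4
      refine not_hasRedundant_two_of_pow (k := j + 1) (b := Fintype.card F * (2 ^ (j + 1) + 1))
        ⟨g, rfl, Or.inr hg⟩ h2 ((card_centralizer_split hg).trans (by rw [hk, Nat.add_sub_cancel])) ?_ ?_
      · have e1 : Fintype.card F + 1 = 2 * (2 ^ (j + 1) + 1) := by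
          rw [pow_succ'] at hk
          omega
        have e2 : Fintype.card F - 1 = 2 ^ (j + 2) := by omega
        rw [hsq, e1, e2, pow_succ 2 (j + 2)]
        ring
      · refine hodd.mul ⟨2 ^ j, by rw [pow_succ']⟩
    refine iff_of_true (hasRedundant_two h2 hp1 hm1) ⟨rfl, hp1, ?_, hm1⟩
    rintro ⟨k, hk⟩
    rcases k with _ | k
    · simp at hk; omega
    · exact Nat.not_even_iff_odd.2 hodd (hk ▸ ⟨2 ^ k, by rw [pow_succ']; omega⟩)
  · exact iff_of_false (not_hasRedundant_odd p hp hpc) (fun h => hp h.1)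

end Cfsg.Agent.Lib.RedundantSylow
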